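import Mathlib
import Cfsg.Prelude.Def_Transfer
import Cfsg.Agent.Solvable.Gaschutz

/-!
Preimages of elementary abelian subgroups in a central extension by an elementary abelian 2-group.
-/

set_option autoImplicit false
set_option linter.unusedVariables false

namespace CfsgLib.L34Cover

variable {X Q : Type*} [Group X] [Group Q]

theorem exists_compl_elem (K D : Subgroup X) (hK : Cfsg.IsElementaryAbelian 2 K) (hD : D ≤ K) :
    ∃ C : Subgroup X, C ≤ K ∧ (∀ x ∈ C, x ∈ D → x = 1) ∧ ∀ x ∈ K, ∃ c ∈ C, ∃ d ∈ D, x = c * d := by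
  letI : CommGroup ↥K :=
    { (inferInstance : Group ↥K) with mul_comm := fun a b => hK.1.is_comm.comm a b }
  letI : Module (ZMod 2) (Additive ↥K) := AddCommGroup.zmodModule (fun x => by
    show Additive.ofMul (x.toMul ^ 2) = 0
    have : x.toMul ^ 2 = 1 := Subtype.ext (by simpa using hK.2 _ x.toMul.2)
    rw [this]; rfl)
  obtain ⟨T, hT⟩ := Submodule.exists_isCompl
    (AddSubgroup.toZModSubmodule 2 (Subgroup.toAddSubgroup (D.subgroupOf K)))
  refine ⟨(AddSubgroup.toSubgroup' T.toAddSubgroup).map K.subtype, Subgroup.map_subtype_le _, ?_, ?_⟩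
  · rintro x ⟨y, hy, rfl⟩ hyD
    have h := Submodule.disjoint_def.mp hT.disjoint (Additive.ofMul y) hyD hy
    have : y = 1 := by simpa using h
    simp [this]
  · intro x hx
    obtain ⟨d, hd, t, ht, h⟩ := Submodule.mem_sup.mp
      (hT.sup_eq_top.symm ▸ Submodule.mem_top (x := Additive.ofMul (⟨x, hx⟩ : ↥K)))
    refine ⟨(t.toMul : ↥K), ⟨t.toMul, ht, rfl⟩, (d.toMul : ↥K), hd, ?_⟩
    have h' := congrArg (fun z : Additive ↥K => ((z.toMul : ↥K) : X)) h
    simp only [toMul_add, toMul_ofMul, Subgroup.coe_mul] at h'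
    rw [← h', ← Subgroup.coe_mul, mul_comm (d.toMul) t.toMul, Subgroup.coe_mul]

variable [Finite X] (π : X →* Q) (hπ : Function.Surjective π) (hker : π.ker = Subgroup.center X)

include hπ hker in
theorem elem_comap (hZ : Cfsg.IsElementaryAbelian 2 (Subgroup.center X)) (A : Subgroup Q)
    (hA : Cfsg.IsElementaryAbelian 2 A) (hcard : 5 ≤ Nat.card ↥A)
    (htr : ∀ a ∈ A, ∀ b ∈ A, a ≠ 1 → b ≠ 1 → ∃ n : Q, n * a * n⁻¹ = b) :
    Cfsg.IsElementaryAbelian 2 (A.comap π) := by
  classical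
  have hcen : ∀ z : X, π z = 1 → ∀ g : X, g * z = z * g := fun z hz =>
    Subgroup.mem_center_iff.mp (hker ▸ (MonoidHom.mem_ker.mpr hz))
  have hzsq : ∀ z : X, π z = 1 → z ^ 2 = 1 := fun z hz =>
    hZ.2 z (hker ▸ (MonoidHom.mem_ker.mpr hz))
  have hsq : ∀ h : X, π h ∈ A → π (h ^ 2) = 1 := fun h hh => by rw [map_pow]; exact hA.2 _ hh
  -- squares are constant off the kernel
  have hconst : ∀ h k : X, π h ∈ A → π k ∈ A → π h ≠ 1 → π k ≠ 1 → k ^ 2 = h ^ 2 := by
    intro h k hh hk hh1 hk1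
    obtain ⟨n, hn⟩ := htr _ hh _ hk hh1 hk1
    obtain ⟨n, rfl⟩ := hπ n
    have hz : π ((n * h * n⁻¹)⁻¹ * k) = 1 := by
      rw [map_mul, map_inv, map_mul, map_mul, map_inv, hn, inv_mul_cancel]
    set z := (n * h * n⁻¹)⁻¹ * k
    have hk' : k = (n * h * n⁻¹) * z := by simp [z, ← mul_assoc]
    rw [hk', (show Commute (n * h * n⁻¹) z from hcen z hz _).mul_pow, hzsq z hz, mul_one, conj_pow,
      hcen _ (hsq h hh) n, mul_inv_cancel_right]
  have hAa : ∀ a ∈ A, ∀ b ∈ A, a * b = b * a := fun a ha b hb =>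
    congrArg Subtype.val (hA.1.is_comm.comm (⟨a, ha⟩ : ↥A) ⟨b, hb⟩)
  -- commutators of independent pairs
  have hcomm : ∀ h k : X, π h ∈ A → π k ∈ A → π h ≠ 1 → π k ≠ 1 → π h ≠ π k →
      k * h = h ^ 2 * (h * k) := by
    intro h k hh hk hh1 hk1 hne
    have hhk : π (h * k) ∈ A := by rw [map_mul]; exact A.mul_mem hh hk
    have hhk1 : π (h * k) ≠ 1 := by
      rw [map_mul]
      intro e
      apply hne
      have := hA.2 _ hk
      rw [sq] at this
      exact mul_right_cancel (e.trans this.symm)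
    have e1 := hconst h k hh hk hh1 hk1
    have e2 := hconst h (h * k) hh hhk hh1 hhk1
    have ec := hsq h hh
    have cc := hzsq _ ec
    set c := h ^ 2 with hc
    have hhi : h⁻¹ = c * h := by
      apply inv_eq_of_mul_eq_one_right
      rw [← mul_assoc, hcen c ec h, mul_assoc, ← sq, ← hc, ← sq, cc]
    have hki : k⁻¹ = c * k := by
      apply inv_eq_of_mul_eq_one_right
      rw [← mul_assoc, hcen c ec k, mul_assoc, ← sq, e1, ← sq, cc]
    have : k * h = h⁻¹ * (h * k) ^ 2 * k⁻¹ := by rw [sq]; group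
    rw [this, e2, hhi, hki]
    calc c * h * c * (c * k) = c * h * (c * c) * k := by group
      _ = c * (h * k) := by rw [← sq c, cc]; group
  -- a third independent element
  have hc1 : ∀ h : X, π h ∈ A → h ^ 2 = 1 := by
    intro h hh
    by_cases hh1 : π h = 1
    · exact hzsq h hh1
    have hex : ∀ S : Finset Q, S.card ≤ 4 → ∃ a ∈ A, a ∉ S := by
      intro S hS
      by_contra hne
      push Not at hne
      have hle := Set.ncard_le_ncard (s := (A : Set Q)) (t := (S : Set Q)) hne S.finite_toSet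
      rw [Set.ncard_coe_finset, ← Nat.card_coe_set_eq] at hle
      simp only [SetLike.coe_sort_coe] at hle
      omega
    obtain ⟨k', hk, hk'⟩ := hex {1, π h} (Finset.card_le_two.trans (by norm_num))
    obtain ⟨k, rfl⟩ := hπ k'
    simp only [Finset.mem_insert, Finset.mem_singleton, not_or] at hk'
    obtain ⟨m', hm, hm'⟩ := hex {1, π h, π k, π h * π k}
      (by exact Finset.card_le_four)
    obtain ⟨m, rfl⟩ := hπ m'
    simp only [Finset.mem_insert, Finset.mem_singleton, not_or] at hm'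
    have hkk : π k * π k = 1 := by rw [← sq]; exact hA.2 _ hk
    have hkm : π (k * m) ∈ A := by rw [map_mul]; exact A.mul_mem hk hm
    have hkm1 : π (k * m) ≠ 1 := by
      rw [map_mul]; intro e
      exact hm'.2.2.1 (mul_left_cancel (e.trans hkk.symm))
    have hkmh : π h ≠ π (k * m) := by
      rw [map_mul]; intro e
      apply hm'.2.2.2
      rw [hAa _ hh _ hk, e, ← mul_assoc, hkk, one_mul]
    have c1 := hcomm h k hh hk hh1 hk'.1 (Ne.symm hk'.2)
    have c2 := hcomm h m hh hm hh1 hm'.1 (Ne.symm hm'.2.1)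
    have c3 := hcomm h (k * m) hh hkm hh1 hkm1 hkmh
    have cen : k * h ^ 2 = h ^ 2 * k := hcen _ (hsq h hh) k
    have : h ^ 2 * (h * (k * m)) = h * (k * m) := by
      rw [← c3, mul_assoc, c2, ← mul_assoc, cen, mul_assoc (h ^ 2) k, ← mul_assoc k h m, c1]
      calc h ^ 2 * (h ^ 2 * (h * k) * m) = (h ^ 2) ^ 2 * (h * (k * m)) := by group
        _ = h * (k * m) := by rw [hzsq _ (hsq h hh), one_mul]
    exact mul_eq_right.mp this
  refine ⟨⟨⟨fun ⟨h, hh⟩ ⟨k, hk⟩ => Subtype.ext ?_⟩⟩, fun h hh => hc1 h hh⟩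
  have e1 := hc1 h hh
  have e2 := hc1 k hk
  have e3 : (h * k) ^ 2 = 1 := hc1 _ ((A.comap π).mul_mem hh hk)
  rw [sq] at e1 e2 e3
  change h * k = k * h
  calc h * k = (h * k)⁻¹ := (inv_eq_of_mul_eq_one_right e3).symm
    _ = k * h := by rw [mul_inv_rev, inv_eq_of_mul_eq_one_right e1, inv_eq_of_mul_eq_one_right e2]

/-- Two complements of a normal subgroup are isomorphic. -/
theorem complements_equiv {P : Type*} [Group P] (N C D : Subgroup P) [N.Normal]
    (hC : C ⊓ N = ⊥) (hC' : N ⊔ C = ⊤) (hD : D ⊓ N = ⊥) (hD' : N ⊔ D = ⊤) :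
    Nonempty (↥C ≃* ↥D) := by
  have key : ∀ C : Subgroup P, C ⊓ N = ⊥ → N ⊔ C = ⊤ → C.IsComplement' N := fun C h h' =>
    Subgroup.isComplement'_of_disjoint_and_mul_eq_univ (disjoint_iff.mpr h)
      (by rw [← Subgroup.mul_normal, sup_comm, h', Subgroup.coe_top])
  exact ⟨(key C hC hC').QuotientMulEquiv.symm.trans (key D hD hD').QuotientMulEquiv⟩

include hπ hker in
theorem complement_comap {S : Type*} [Group S] (A B : Subgroup Q) (ℓ : S →* Q)
    (hA : Cfsg.IsElementaryAbelian 2 (A.comap π)) (hB : Cfsg.IsElementaryAbelian 2 (B.comap π))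
    (hBn : B ≤ Subgroup.normalizer (A : Set Q)) (hodd : ¬ 2 ∣ (A ⊔ B).index)
    (hℓ : Function.Injective ℓ) (hLA : ℓ.range ⊓ A = ⊥)
    (hN : A ⊔ ℓ.range = Subgroup.normalizer (A : Set Q)) :
    ∃ C : Subgroup X, C ≤ Subgroup.normalizer ((A.comap π : Subgroup X) : Set X) ∧
      C ⊓ A.comap π = ⊥ ∧ A.comap π ⊔ C = Subgroup.normalizer ((A.comap π : Subgroup X) : Set X) ∧
      Nonempty (↥C ≃* S) := by
  classical
  set H := A.comap π with hH
  set M := Subgroup.normalizer (H : Set X) with hM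
  have hMc : M = (Subgroup.normalizer (A : Set Q)).comap π := by
    rw [hM, hH]; exact (Subgroup.comap_normalizer_eq_of_surjective A hπ).symm
  have hAn : A ≤ Subgroup.normalizer (A : Set Q) := Subgroup.le_normalizer
  have hHM : H ≤ M := Subgroup.le_normalizer
  have hKM : B.comap π ≤ M := hMc ▸ Subgroup.comap_mono hBn
  let V : Subgroup X := (A ⊔ B).comap π
  have hVM : V ≤ M := hMc ▸ Subgroup.comap_mono (sup_le hAn hBn)
  obtain ⟨C₀, hC₀K, hC₀d, hC₀s⟩ := exists_compl_elem (B.comap π) (H ⊓ B.comap π) hB inf_le_right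
  have hV : H ⊔ C₀ = V := by
    apply le_antisymm (sup_le (Subgroup.comap_mono le_sup_left)
      (hC₀K.trans (Subgroup.comap_mono le_sup_right)))
    show (A ⊔ B).comap π ≤ _
    rw [← Subgroup.comap_sup_eq π A B hπ, sup_le_iff]
    refine ⟨le_sup_left, fun x hx => ?_⟩
    obtain ⟨c, hc, d, hd, rfl⟩ := hC₀s x hx
    exact mul_mem (Subgroup.mem_sup_right hc) (Subgroup.mem_sup_left hd.1)
  haveI : (H.subgroupOf M).Normal := Subgroup.normal_subgroupOf_of_le_normalizer le_rfl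
  haveI : IsMulCommutative ↥(H.subgroupOf M) :=
    ⟨⟨fun a b => Subtype.ext (Subtype.ext (show (((a : ↥M) : X) * ((b : ↥M) : X)) = _ * _ from
      congrArg Subtype.val (hA.1.is_comm.comm ⟨((a : ↥M) : X), a.2⟩ ⟨((b : ↥M) : X), b.2⟩)))⟩⟩
  have hcop : (Nat.card ↥(H.subgroupOf M)).Coprime (V.subgroupOf M).index := by
    rw [Nat.card_congr (Subgroup.subgroupOfEquivOfLe hHM).toEquiv]
    haveI : Fact (Nat.Prime 2) := ⟨Nat.prime_two⟩
    obtain ⟨k, hk⟩ := IsPGroup.iff_card.mp
      (show IsPGroup 2 ↥H from fun a => ⟨1, Subtype.ext (by simpa using hA.2 _ a.2)⟩)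
    rw [hk]
    refine (Nat.Coprime.pow_left k ((Nat.Prime.coprime_iff_not_dvd Nat.prime_two).mpr fun hd => hodd ?_))
    rw [← Subgroup.index_comap_of_surjective (A ⊔ B) hπ]
    exact hd.trans (dvd_of_mul_right_eq _ (Subgroup.relIndex_mul_index hVM))
  obtain ⟨C', hC'⟩ := CfsgLib.Gaschutz.exists_complement (K := H.subgroupOf M) (U := V.subgroupOf M)
    (Subgroup.comap_mono (hV ▸ le_sup_left)) hcop (C₀.subgroupOf M)
    (Subgroup.comap_mono (hV ▸ le_sup_right))
    (by
      rw [eq_bot_iff]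
      rintro x ⟨hx1, hx2⟩
      exact Subgroup.mem_bot.mpr (Subtype.ext (hC₀d _ hx1 ⟨hx2, hC₀K hx1⟩)))
    (by rw [← Subgroup.subgroupOf_sup hHM (hC₀K.trans hKM), hV])
  set C : Subgroup X := C'.map M.subtype with hC
  have hCM : C ≤ M := Subgroup.map_subtype_le _
  have hCH : C ⊓ H = ⊥ := by
    rw [eq_bot_iff]
    rintro _ ⟨⟨c, hc, rfl⟩, hcH⟩
    have := Subgroup.disjoint_def.mp hC'.disjoint (show c ∈ H.subgroupOf M from hcH) hc
    simp [this]
  have hsup : H ⊔ C = M := by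
    have := congrArg (Subgroup.map M.subtype) hC'.sup_eq_top
    rwa [Subgroup.map_sup, Subgroup.subgroupOf_map_subtype, inf_eq_left.mpr hHM,
      ← MonoidHom.range_eq_map, Subgroup.range_subtype] at this
  refine ⟨C, hCM, hCH, hsup, ?_⟩
  set P := Subgroup.normalizer (A : Set Q) with hP
  have hCP : C.map π ≤ P := by
    rw [Subgroup.map_le_iff_le_comap, ← hMc]; exact hCM
  have hLP : ℓ.range ≤ P := hN ▸ le_sup_right
  haveI : (A.subgroupOf P).Normal := Subgroup.normal_subgroupOf_of_le_normalizer le_rfl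
  obtain ⟨e⟩ := complements_equiv (A.subgroupOf P) ((C.map π).subgroupOf P) (ℓ.range.subgroupOf P)
    (by
      rw [eq_bot_iff]
      rintro x ⟨⟨c, hc, hcx⟩, hxA⟩
      have hxA' : π c ∈ A := by rw [hcx]; exact hxA
      have : c = 1 := Subgroup.mem_bot.mp (hCH ▸ ⟨hc, hxA'⟩)
      exact Subgroup.mem_bot.mpr (Subtype.ext (show (x : Q) = 1 by
        rw [← show π c = (x : Q) from hcx, this, map_one])))
    (by
      rw [← Subgroup.subgroupOf_sup hAn hCP, Subgroup.subgroupOf_eq_top]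
      calc P = (P.comap π).map π := (Subgroup.map_comap_eq_self_of_surjective hπ P).symm
        _ = (H ⊔ C).map π := by rw [hsup, hMc]
        _ = A ⊔ C.map π := by rw [Subgroup.map_sup, hH, Subgroup.map_comap_eq_self_of_surjective hπ]
        _ ≤ A ⊔ C.map π := le_rfl)
    (by
      rw [eq_bot_iff]
      rintro x ⟨hx1, hx2⟩
      exact Subgroup.mem_bot.mpr (Subtype.ext (Subgroup.mem_bot.mp (hLA ▸ ⟨hx1, hx2⟩))))
    (by rw [← Subgroup.subgroupOf_sup hAn hLP, hN, Subgroup.subgroupOf_self])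
  have hinj : Function.Injective ((π.subgroupMap C)) := by
    rw [injective_iff_map_eq_one]
    rintro ⟨c, hc⟩ h
    have hc1 : π c = 1 := congrArg Subtype.val h
    exact Subtype.ext (Subgroup.mem_bot.mp (hCH ▸ ⟨hc, show π c ∈ A by rw [hc1]; exact A.one_mem⟩))
  exact ⟨(MulEquiv.ofBijective (π.subgroupMap C) ⟨hinj, π.subgroupMap_surjective C⟩).trans
    ((Subgroup.subgroupOfEquivOfLe hCP).symm.trans
      (e.trans ((Subgroup.subgroupOfEquivOfLe hLP).trans (MonoidHom.ofInjective hℓ).symm)))⟩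

include hπ hker in
theorem center_sup_comap (A B : Subgroup Q)
    (hA : Cfsg.IsElementaryAbelian 2 (A.comap π)) (hB : Cfsg.IsElementaryAbelian 2 (B.comap π))
    (hc : ∀ u ∈ A ⊔ B, (∀ a ∈ A, u * a = a * u) → (∀ b ∈ B, u * b = b * u) → u ∈ A ⊓ B) :
    A.comap π ⊓ B.comap π =
      (Subgroup.center ↥(A.comap π ⊔ B.comap π)).map (A.comap π ⊔ B.comap π).subtype := by
  ext x
  constructor
  · rintro ⟨hxA, hxB⟩
    refine ⟨⟨x, Subgroup.mem_sup_left hxA⟩, Subgroup.mem_center_iff.mpr fun ⟨g, hg⟩ =>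
      Subtype.ext ?_, rfl⟩
    have : A.comap π ⊔ B.comap π ≤ Subgroup.centralizer ({x} : Set X) := by
      refine sup_le (fun y hy => ?_) (fun y hy => ?_)
      · exact Subgroup.mem_centralizer_singleton_iff.mpr
          (congrArg Subtype.val (hA.1.is_comm.comm ⟨y, hy⟩ ⟨x, hxA⟩))
      · exact Subgroup.mem_centralizer_singleton_iff.mpr
          (congrArg Subtype.val (hB.1.is_comm.comm ⟨y, hy⟩ ⟨x, hxB⟩))
    exact Subgroup.mem_centralizer_singleton_iff.mp (this hg)
  · rintro ⟨⟨y, hy⟩, hyc, rfl⟩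
    have hy' : π y ∈ A ⊔ B := by
      rw [Subgroup.comap_sup_eq π A B hπ] at hy; exact hy
    have hcy := Subgroup.mem_center_iff.mp hyc
    have key := hc (π y) hy'
      (fun a ha => by
        obtain ⟨a, rfl⟩ := hπ a
        rw [← map_mul, ← map_mul]
        exact congrArg π (congrArg Subtype.val (hcy ⟨a, Subgroup.mem_sup_left ha⟩)).symm)
      (fun b hb => by
        obtain ⟨b, rfl⟩ := hπ b
        rw [← map_mul, ← map_mul]
        exact congrArg π (congrArg Subtype.val (hcy ⟨b, Subgroup.mem_sup_right hb⟩)).symm)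
    exact ⟨key.1, key.2⟩

end CfsgLib.L34Cover
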