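import Mathlib
import Cfsg.Agent.AutPSL.Unipotent
import Cfsg.Agent.L34Cover.Core

/-!
The two elementary abelian subgroups of order 16 in a Sylow 2-subgroup of `PSL₃(4)`.
-/

set_option autoImplicit false
set_option linter.unusedSectionVars false
set_option linter.unusedVariables false

open Matrix

namespace CfsgLib.L34Cover

variable {F : Type*} [Field F]

local notation "S3" => Matrix.SpecialLinearGroup (Fin 3) F
local notation "S2" => Matrix.SpecialLinearGroup (Fin 2) F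
local notation "P3" => Matrix.ProjectiveSpecialLinearGroup (Fin 3) F

def uT (a b c : F) : S3 := ⟨!![1, a, b; 0, 1, c; 0, 0, 1], by simp [Matrix.det_fin_three]⟩

theorem uT_mul (a b c a' b' c' : F) :
    uT a b c * uT a' b' c' = uT (a + a') (b + b' + a * c') (c + c') := by
  apply Subtype.ext
  show !![1, a, b; 0, 1, c; 0, 0, 1] * !![1, a', b'; 0, 1, c'; 0, 0, 1] = _
  ext i j
  fin_cases i <;> fin_cases j <;> simp [uT, Matrix.mul_apply, Fin.sum_univ_three] <;> ring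

theorem uT_zero : uT (0 : F) 0 0 = 1 := by
  apply Subtype.ext
  ext i j
  fin_cases i <;> fin_cases j <;> simp [uT]

theorem uT_inj {a b c a' b' c' : F} (h : uT a b c = uT a' b' c') : a = a' ∧ b = b' ∧ c = c' := by
  refine ⟨?_, ?_, ?_⟩
  · simpa [uT] using congrArg (fun s : S3 => (s : Matrix (Fin 3) (Fin 3) F) 0 1) h
  · simpa [uT] using congrArg (fun s : S3 => (s : Matrix (Fin 3) (Fin 3) F) 0 2) h
  · simpa [uT] using congrArg (fun s : S3 => (s : Matrix (Fin 3) (Fin 3) F) 1 2) h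

theorem isUnitri_uT (a b c : F) : CfsgLib.AutPSL.IsUnitri (uT a b c) := by
  refine ⟨fun i => ?_, fun i j h => ?_⟩
  · fin_cases i <;> simp [uT]
  · fin_cases i <;> fin_cases j <;> simp [uT] at h ⊢

theorem exists_uT {s : S3} (hs : CfsgLib.AutPSL.IsUnitri s) : ∃ a b c, s = uT a b c := by
  refine ⟨(s : Matrix (Fin 3) (Fin 3) F) 0 1, (s : Matrix (Fin 3) (Fin 3) F) 0 2,
    (s : Matrix (Fin 3) (Fin 3) F) 1 2, Subtype.ext ?_⟩
  ext i j
  fin_cases i <;> fin_cases j <;>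
    first
    | simp [uT, hs.1]; done
    | simp [uT]; done
    | simp [uT]; exact hs.2 _ _ (by decide)

def mkQ : S3 →* P3 := QuotientGroup.mk' _

def uQ (a b c : F) : P3 := mkQ (uT a b c)

theorem uQ_mul (a b c a' b' c' : F) :
    uQ a b c * uQ a' b' c' = uQ (a + a') (b + b' + a * c') (c + c') := by
  rw [uQ, uQ, uQ, ← map_mul, uT_mul]

theorem uQ_zero : uQ (0 : F) 0 0 = 1 := by rw [uQ, uT_zero, map_one]

variable [Fintype F]

theorem uQ_inj {a b c a' b' c' : F} (h : uQ a b c = uQ a' b' c') : a = a' ∧ b = b' ∧ c = c' :=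
  uT_inj (CfsgLib.AutPSL.mk_injOn_unitri (isUnitri_uT a b c) (isUnitri_uT a' b' c') h)

theorem uQ_eq_one {a b c : F} (h : uQ a b c = 1) : a = 0 ∧ b = 0 ∧ c = 0 :=
  uQ_inj (h.trans uQ_zero.symm)

theorem mem_unitri {x : P3} : x ∈ CfsgLib.AutPSL.unitri F 3 ↔ ∃ a b c, x = uQ a b c := by
  constructor
  · rintro ⟨s, hs, rfl⟩
    obtain ⟨a, b, c, rfl⟩ := exists_uT hs
    exact ⟨a, b, c, rfl⟩
  · rintro ⟨a, b, c, rfl⟩
    exact ⟨uT a b c, isUnitri_uT a b c, rfl⟩

def subA : Subgroup P3 where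
  carrier := {x | ∃ b c, x = uQ 0 b c}
  one_mem' := ⟨0, 0, uQ_zero.symm⟩
  mul_mem' := by
    rintro _ _ ⟨b, c, rfl⟩ ⟨b', c', rfl⟩
    exact ⟨b + b', c + c', by rw [uQ_mul]; simp⟩
  inv_mem' := by
    rintro _ ⟨b, c, rfl⟩
    exact ⟨-b, -c, inv_eq_of_mul_eq_one_right (by rw [uQ_mul]; simp [uQ_zero])⟩

def subB : Subgroup P3 where
  carrier := {x | ∃ a b, x = uQ a b 0}
  one_mem' := ⟨0, 0, uQ_zero.symm⟩
  mul_mem' := by
    rintro _ _ ⟨a, b, rfl⟩ ⟨a', b', rfl⟩
    exact ⟨a + a', b + b', by rw [uQ_mul]; simp⟩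
  inv_mem' := by
    rintro _ ⟨a, b, rfl⟩
    exact ⟨-a, -b, inv_eq_of_mul_eq_one_right (by rw [uQ_mul]; simp [uQ_zero])⟩

theorem card_subA : Nat.card ↥(subA (F := F)) = Nat.card F ^ 2 := by
  rw [sq, ← Nat.card_prod]
  refine (Nat.card_congr (Equiv.ofBijective
    (fun p : F × F => (⟨uQ 0 p.1 p.2, p.1, p.2, rfl⟩ : ↥(subA (F := F)))) ⟨?_, ?_⟩)).symm
  · intro p q h
    obtain ⟨-, h1, h2⟩ := uQ_inj (congrArg Subtype.val h)
    exact Prod.ext h1 h2
  · rintro ⟨_, b, c, rfl⟩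
    exact ⟨(b, c), rfl⟩

theorem card_subB : Nat.card ↥(subB (F := F)) = Nat.card F ^ 2 := by
  rw [sq, ← Nat.card_prod]
  refine (Nat.card_congr (Equiv.ofBijective
    (fun p : F × F => (⟨uQ p.1 p.2 0, p.1, p.2, rfl⟩ : ↥(subB (F := F)))) ⟨?_, ?_⟩)).symm
  · intro p q h
    obtain ⟨h1, h2, -⟩ := uQ_inj (congrArg Subtype.val h)
    exact Prod.ext h1 h2
  · rintro ⟨_, b, c, rfl⟩
    exact ⟨(b, c), rfl⟩

theorem sup_eq : subA ⊔ subB = CfsgLib.AutPSL.unitri F 3 := by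
  apply le_antisymm
  · refine sup_le ?_ ?_
    · rintro _ ⟨b, c, rfl⟩; exact mem_unitri.mpr ⟨0, b, c, rfl⟩
    · rintro _ ⟨a, b, rfl⟩; exact mem_unitri.mpr ⟨a, b, 0, rfl⟩
  · intro x hx
    obtain ⟨a, b, c, rfl⟩ := mem_unitri.mp hx
    have : uQ a b c = uQ 0 b c * uQ a 0 0 := by rw [uQ_mul]; simp
    rw [this]
    exact Subgroup.mul_mem_sup ⟨b, c, rfl⟩ ⟨a, 0, rfl⟩

theorem center_cond (u : P3) (hu : u ∈ subA ⊔ subB)
    (h1 : ∀ x ∈ subA (F := F), u * x = x * u) (h2 : ∀ x ∈ subB (F := F), u * x = x * u) :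
    u ∈ subA (F := F) ⊓ subB := by
  rw [sup_eq] at hu
  obtain ⟨a, b, c, rfl⟩ := mem_unitri.mp hu
  have e1 := h1 _ ⟨0, 1, rfl⟩
  have e2 := h2 _ ⟨1, 0, rfl⟩
  rw [uQ_mul, uQ_mul] at e1 e2
  have ha : a = 0 := by simpa using (uQ_inj e1).2.1
  have hc : c = 0 := by simpa [eq_comm] using (uQ_inj e2).2.1
  subst ha hc
  exact ⟨⟨b, 0, rfl⟩, ⟨0, b, rfl⟩⟩

variable (hF : Fintype.card F = 4)

include hF in
theorem two_zero : (2 : F) = 0 := by
  have h := Nat.cast_card_eq_zero F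
  rw [hF] at h
  exact mul_self_eq_zero.1 (show (2 : F) * 2 = 0 by rw [← h]; norm_num)

include hF in
theorem add_self (x : F) : x + x = 0 := by rw [← two_mul, two_zero hF, zero_mul]

include hF in
theorem cube_one {r : F} (hr : r ≠ 0) : r ^ 3 = 1 := by
  have := FiniteField.pow_card_sub_one_eq_one r hr
  rwa [hF] at this

include hF in
theorem elem_subA : Cfsg.IsElementaryAbelian 2 (subA (F := F)) := by
  refine ⟨⟨⟨?_⟩⟩, ?_⟩
  · rintro ⟨_, b, c, rfl⟩ ⟨_, b', c', rfl⟩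
    exact Subtype.ext (show uQ 0 b c * uQ 0 b' c' = _ * _ by
      rw [uQ_mul, uQ_mul]; simp [add_comm])
  · rintro _ ⟨b, c, rfl⟩
    rw [sq, uQ_mul]
    simp [add_self hF, uQ_zero]

include hF in
theorem elem_subB : Cfsg.IsElementaryAbelian 2 (subB (F := F)) := by
  refine ⟨⟨⟨?_⟩⟩, ?_⟩
  · rintro ⟨_, b, c, rfl⟩ ⟨_, b', c', rfl⟩
    exact Subtype.ext (show uQ b c 0 * uQ b' c' 0 = _ * _ by
      rw [uQ_mul, uQ_mul]; simp [add_comm])
  · rintro _ ⟨b, c, rfl⟩
    rw [sq, uQ_mul]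
    simp [add_self hF, uQ_zero]

include hF in
theorem le_unitri_cases (E : Subgroup P3) (hE : Cfsg.IsElementaryAbelian 2 E)
    (hle : E ≤ CfsgLib.AutPSL.unitri F 3) (hcard : Nat.card ↥E = 16) : E = subA ∨ E = subB := by
  have hcov : ∀ x ∈ E, x ∈ subA (F := F) ∨ x ∈ subB (F := F) := by
    intro x hx
    obtain ⟨a, b, c, rfl⟩ := mem_unitri.mp (hle hx)
    have h := hE.2 _ hx
    rw [sq, uQ_mul] at h
    have hac : a * c = 0 := by simpa [add_self hF] using (uQ_eq_one h).2.1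
    rcases mul_eq_zero.mp hac with rfl | rfl
    · exact Or.inl ⟨b, c, rfl⟩
    · exact Or.inr ⟨a, b, rfl⟩
  have hq : Nat.card F ^ 2 = 16 := by rw [Nat.card_eq_fintype_card, hF]; norm_num
  by_cases hA : E ≤ subA
  · exact Or.inl (Subgroup.eq_of_le_of_card_ge hA (by rw [card_subA, hcard, hq]))
  · right
    obtain ⟨x, hx, hxA⟩ := SetLike.not_le_iff_exists.mp hA
    refine Subgroup.eq_of_le_of_card_ge (fun y hy => ?_) (by rw [card_subB, hcard, hq])
    by_contra hyB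
    have hxB := (hcov x hx).resolve_left hxA
    have hyA := (hcov y hy).resolve_right hyB
    rcases hcov _ (E.mul_mem hx hy) with h | h
    · exact hxA ((Subgroup.mul_mem_cancel_right _ hyA).mp h)
    · exact hyB ((Subgroup.mul_mem_cancel_left _ hxB).mp h)

omit [Fintype F] in
theorem det2 (M : S2) : (M : Matrix (Fin 2) (Fin 2) F) 0 0 * (M : Matrix (Fin 2) (Fin 2) F) 1 1 -
    (M : Matrix (Fin 2) (Fin 2) F) 0 1 * (M : Matrix (Fin 2) (Fin 2) F) 1 0 = 1 := by
  rw [← Matrix.det_fin_two]; exact M.2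

/-- Levi factor of the stabilizer of `subA`. -/
def leviA : S2 →* S3 where
  toFun M := ⟨!![(M : Matrix (Fin 2) (Fin 2) F) 0 0, (M : Matrix (Fin 2) (Fin 2) F) 0 1, 0;
      (M : Matrix (Fin 2) (Fin 2) F) 1 0, (M : Matrix (Fin 2) (Fin 2) F) 1 1, 0; 0, 0, 1], by
    simpa [Matrix.det_fin_three] using det2 M⟩
  map_one' := by
    apply Subtype.ext
    ext i j
    fin_cases i <;> fin_cases j <;> simp
  map_mul' M N := by
    apply Subtype.ext
    show (_ : Matrix (Fin 3) (Fin 3) F) = _ * _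
    ext i j
    fin_cases i <;> fin_cases j <;>
      simp [Matrix.SpecialLinearGroup.coe_mul, Matrix.mul_apply, Fin.sum_univ_three, Fin.sum_univ_two]

/-- Levi factor of the stabilizer of `subB`. -/
def leviB : S2 →* S3 where
  toFun M := ⟨!![1, 0, 0; 0, (M : Matrix (Fin 2) (Fin 2) F) 0 0, (M : Matrix (Fin 2) (Fin 2) F) 0 1;
      0, (M : Matrix (Fin 2) (Fin 2) F) 1 0, (M : Matrix (Fin 2) (Fin 2) F) 1 1], by
    simpa [Matrix.det_fin_three] using det2 M⟩
  map_one' := by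
    apply Subtype.ext
    ext i j
    fin_cases i <;> fin_cases j <;> simp
  map_mul' M N := by
    apply Subtype.ext
    show (_ : Matrix (Fin 3) (Fin 3) F) = _ * _
    ext i j
    fin_cases i <;> fin_cases j <;>
      simp [Matrix.SpecialLinearGroup.coe_mul, Matrix.mul_apply, Fin.sum_univ_three, Fin.sum_univ_two]

theorem leviA_coe (M : S2) : ((leviA M : S3) : Matrix (Fin 3) (Fin 3) F) =
    !![(M : Matrix (Fin 2) (Fin 2) F) 0 0, (M : Matrix (Fin 2) (Fin 2) F) 0 1, 0;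
      (M : Matrix (Fin 2) (Fin 2) F) 1 0, (M : Matrix (Fin 2) (Fin 2) F) 1 1, 0; 0, 0, 1] := rfl

theorem leviB_coe (M : S2) : ((leviB M : S3) : Matrix (Fin 3) (Fin 3) F) =
    !![1, 0, 0; 0, (M : Matrix (Fin 2) (Fin 2) F) 0 0, (M : Matrix (Fin 2) (Fin 2) F) 0 1;
      0, (M : Matrix (Fin 2) (Fin 2) F) 1 0, (M : Matrix (Fin 2) (Fin 2) F) 1 1] := rfl

def ellA : S2 →* P3 := mkQ.comp leviA
def ellB : S2 →* P3 := mkQ.comp leviB

theorem ellA_mul (M : S2) (b c : F) : ellA M * uQ 0 b c =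
    uQ 0 ((M : Matrix (Fin 2) (Fin 2) F) 0 0 * b + (M : Matrix (Fin 2) (Fin 2) F) 0 1 * c)
      ((M : Matrix (Fin 2) (Fin 2) F) 1 0 * b + (M : Matrix (Fin 2) (Fin 2) F) 1 1 * c) * ellA M := by
  simp only [ellA, uQ, MonoidHom.comp_apply, ← map_mul]
  congr 1
  apply Subtype.ext
  show (_ : Matrix (Fin 3) (Fin 3) F) * _ = _ * _
  ext i j
  fin_cases i <;> fin_cases j <;> simp [uT, leviA_coe, Matrix.SpecialLinearGroup.coe_mul, Matrix.mul_apply, Fin.sum_univ_three]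

theorem ellB_mul (M : S2) (a b : F) : ellB M * uQ a b 0 =
    uQ ((M : Matrix (Fin 2) (Fin 2) F) 1 1 * a - (M : Matrix (Fin 2) (Fin 2) F) 1 0 * b)
      ((M : Matrix (Fin 2) (Fin 2) F) 0 0 * b - (M : Matrix (Fin 2) (Fin 2) F) 0 1 * a) 0 * ellB M := by
  have hd := det2 M
  simp only [ellB, uQ, MonoidHom.comp_apply, ← map_mul]
  congr 1
  apply Subtype.ext
  show (_ : Matrix (Fin 3) (Fin 3) F) * _ = _ * _
  ext i j
  fin_cases i <;> fin_cases j <;> simp [uT, leviB_coe, Matrix.SpecialLinearGroup.coe_mul, Matrix.mul_apply, Fin.sum_univ_three] <;>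
    first | linear_combination (-a) * hd | linear_combination (-b) * hd

theorem mkQ_eq_one {s : S3} (h : mkQ s = 1) :
    ∃ r : F, r ^ 3 = 1 ∧ (s : Matrix (Fin 3) (Fin 3) F) = Matrix.scalar (Fin 3) r := by
  obtain ⟨r, h1, h2⟩ := Matrix.SpecialLinearGroup.mem_center_iff.mp
    ((QuotientGroup.eq_one_iff s).mp h)
  exact ⟨r, by simpa using h1, h2.symm⟩

theorem mkQ_eq_of_smul {s t : S3} (r : F)
    (h : (s : Matrix (Fin 3) (Fin 3) F) = r • (t : Matrix (Fin 3) (Fin 3) F)) : mkQ s = mkQ t := by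
  symm
  refine (QuotientGroup.eq).mpr ?_
  have hr : r ^ 3 = 1 := by
    have := congrArg Matrix.det h
    rw [s.2, Matrix.det_smul, t.2] at this
    simpa using this.symm
  refine Matrix.SpecialLinearGroup.mem_center_iff.mpr ⟨r, by simpa using hr, ?_⟩
  rw [Matrix.SpecialLinearGroup.coe_mul, h, Matrix.mul_smul,
    ← Matrix.SpecialLinearGroup.coe_mul, inv_mul_cancel, Matrix.SpecialLinearGroup.coe_one]
  exact (Matrix.smul_one_eq_diagonal r).symm

theorem ellA_inj : Function.Injective (ellA (F := F)) := by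
  rw [injective_iff_map_eq_one]
  intro M h
  obtain ⟨r, -, hr⟩ := mkQ_eq_one (s := leviA M) h
  have e := fun i j => congrFun (congrFun hr i) j
  have r1 : r = 1 := by simpa [leviA_coe, eq_comm] using e 2 2
  apply Subtype.ext
  ext i j
  fin_cases i <;> fin_cases j
  · simpa [leviA_coe, r1] using e 0 0
  · simpa [leviA_coe] using e 0 1
  · simpa [leviA_coe] using e 1 0
  · simpa [leviA_coe, r1] using e 1 1

theorem ellB_inj : Function.Injective (ellB (F := F)) := by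
  rw [injective_iff_map_eq_one]
  intro M h
  obtain ⟨r, -, hr⟩ := mkQ_eq_one (s := leviB M) h
  have e := fun i j => congrFun (congrFun hr i) j
  have r1 : r = 1 := by simpa [leviB_coe, eq_comm] using e 0 0
  apply Subtype.ext
  ext i j
  fin_cases i <;> fin_cases j
  · simpa [leviB_coe, r1] using e 1 1
  · simpa [leviB_coe] using e 1 2
  · simpa [leviB_coe] using e 2 1
  · simpa [leviB_coe, r1] using e 2 2

theorem ellA_disjoint : (ellA (F := F)).range ⊓ subA = ⊥ := by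
  rw [eq_bot_iff]
  rintro _ ⟨⟨M, rfl⟩, b, c, h⟩
  have h' : mkQ ((uT 0 b c)⁻¹ * leviA M) = 1 := by
    rw [map_mul, map_inv]; exact inv_mul_eq_one.mpr h.symm
  obtain ⟨r, -, hr⟩ := mkQ_eq_one h'
  have h2 : ((leviA M : S3) : Matrix (Fin 3) (Fin 3) F) = r • (uT 0 b c : Matrix (Fin 3) (Fin 3) F) := by
    have e : ((uT 0 b c * ((uT 0 b c)⁻¹ * leviA M) : S3) : Matrix (Fin 3) (Fin 3) F) =
        ((uT 0 b c : S3) : Matrix (Fin 3) (Fin 3) F) * Matrix.scalar (Fin 3) r := by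
      rw [Matrix.SpecialLinearGroup.coe_mul, hr]
    rw [mul_inv_cancel_left] at e
    rw [e, Matrix.scalar_apply, ← Matrix.smul_one_eq_diagonal, Matrix.mul_smul, mul_one]
  have e := fun i j => congrFun (congrFun h2 i) j
  have r1 : r = 1 := by simpa [leviA_coe, uT, eq_comm] using e 2 2
  have hb : b = 0 := by simpa [leviA_coe, uT, r1, eq_comm] using e 0 2
  have hc : c = 0 := by simpa [leviA_coe, uT, r1, eq_comm] using e 1 2
  subst hb hc
  exact Subgroup.mem_bot.mpr (h.trans uQ_zero)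

theorem ellB_disjoint : (ellB (F := F)).range ⊓ subB = ⊥ := by
  rw [eq_bot_iff]
  rintro _ ⟨⟨M, rfl⟩, b, c, h⟩
  have h' : mkQ ((uT b c 0)⁻¹ * leviB M) = 1 := by
    rw [map_mul, map_inv]; exact inv_mul_eq_one.mpr h.symm
  obtain ⟨r, -, hr⟩ := mkQ_eq_one h'
  have h2 : ((leviB M : S3) : Matrix (Fin 3) (Fin 3) F) = r • (uT b c 0 : Matrix (Fin 3) (Fin 3) F) := by
    have e : ((uT b c 0 * ((uT b c 0)⁻¹ * leviB M) : S3) : Matrix (Fin 3) (Fin 3) F) =
        ((uT b c 0 : S3) : Matrix (Fin 3) (Fin 3) F) * Matrix.scalar (Fin 3) r := by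
      rw [Matrix.SpecialLinearGroup.coe_mul, hr]
    rw [mul_inv_cancel_left] at e
    rw [e, Matrix.scalar_apply, ← Matrix.smul_one_eq_diagonal, Matrix.mul_smul, mul_one]
  have e := fun i j => congrFun (congrFun h2 i) j
  have r1 : r = 1 := by simpa [leviB_coe, uT, eq_comm] using e 0 0
  have hb : b = 0 := by simpa [leviB_coe, uT, r1, eq_comm] using e 0 1
  have hc : c = 0 := by simpa [leviB_coe, uT, r1, eq_comm] using e 0 2
  subst hb hc
  exact Subgroup.mem_bot.mpr (h.trans uQ_zero)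

theorem ellA_le : (ellA (F := F)).range ≤ Subgroup.normalizer ((subA (F := F) : Subgroup P3) : Set P3) := by
  have h1 : ∀ M : S2, ∀ x ∈ subA (F := F), ellA M * x * (ellA M)⁻¹ ∈ subA (F := F) := by
    rintro M _ ⟨b, c, rfl⟩
    rw [ellA_mul, mul_inv_cancel_right]; exact ⟨_, _, rfl⟩
  rintro _ ⟨M, rfl⟩
  rw [Subgroup.mem_normalizer_iff]
  refine fun x => ⟨h1 M x, fun hx => ?_⟩
  have := h1 M⁻¹ _ hx
  rw [map_inv] at this
  simpa [mul_assoc] using this

theorem ellB_le : (ellB (F := F)).range ≤ Subgroup.normalizer ((subB (F := F) : Subgroup P3) : Set P3) := by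
  have h1 : ∀ M : S2, ∀ x ∈ subB (F := F), ellB M * x * (ellB M)⁻¹ ∈ subB (F := F) := by
    rintro M _ ⟨a, b, rfl⟩
    rw [ellB_mul, mul_inv_cancel_right]; exact ⟨_, _, rfl⟩
  rintro _ ⟨M, rfl⟩
  rw [Subgroup.mem_normalizer_iff]
  refine fun x => ⟨h1 M x, fun hx => ?_⟩
  have := h1 M⁻¹ _ hx
  rw [map_inv] at this
  simpa [mul_assoc] using this

theorem trans_subA (x : P3) (hx : x ∈ subA (F := F)) (hx1 : x ≠ 1) :
    ∃ M : S2, ellA M * uQ 0 1 0 * (ellA M)⁻¹ = x := by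
  obtain ⟨b, c, rfl⟩ := hx
  by_cases hb : b = 0
  · subst hb
    have hc : c ≠ 0 := fun h => hx1 (by rw [h]; exact uQ_zero)
    let M : S2 := ⟨!![0, -c⁻¹; c, 0], by simp [Matrix.det_fin_two, hc]⟩
    refine ⟨M, ?_⟩
    rw [ellA_mul, mul_inv_cancel_right]; simp [M]
  · let M : S2 := ⟨!![b, 0; c, b⁻¹], by simp [Matrix.det_fin_two, hb]⟩
    refine ⟨M, ?_⟩
    rw [ellA_mul, mul_inv_cancel_right]; simp [M]

theorem trans_subB (x : P3) (hx : x ∈ subB (F := F)) (hx1 : x ≠ 1) :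
    ∃ M : S2, ellB M * uQ 1 0 0 * (ellB M)⁻¹ = x := by
  obtain ⟨a, b, rfl⟩ := hx
  by_cases ha : a = 0
  · subst ha
    have hb : b ≠ 0 := fun h => hx1 (by rw [h]; exact uQ_zero)
    let M : S2 := ⟨!![0, -b; b⁻¹, 0], by simp [Matrix.det_fin_two, hb]⟩
    refine ⟨M, ?_⟩
    rw [ellB_mul, mul_inv_cancel_right]; simp [M]
  · let M : S2 := ⟨!![a⁻¹, -b; 0, a], by simp [Matrix.det_fin_two, ha]⟩
    refine ⟨M, ?_⟩
    rw [ellB_mul, mul_inv_cancel_right]; simp [M]

include hF in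
theorem lift_comm {s u u' : S3} (hu : u * u = 1) (hu' : u' * u' = 1)
    (h : mkQ s * mkQ u * (mkQ s)⁻¹ = mkQ u') : s * u = u' * s := by
  have hz : mkQ (u'⁻¹ * (s * u * s⁻¹)) = 1 := by
    rw [map_mul, map_inv, map_mul, map_mul, map_inv, h, inv_mul_cancel]
  have hcen := Subgroup.mem_center_iff.mp ((QuotientGroup.eq_one_iff _).mp hz)
  set z := u'⁻¹ * (s * u * s⁻¹) with hz'
  have e1 : s * u * s⁻¹ = u' * z := by rw [hz', mul_inv_cancel_left]
  have e2 : z * z = 1 := by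
    have h2 : (s * u * s⁻¹) * (s * u * s⁻¹) = 1 := by
      calc s * u * s⁻¹ * (s * u * s⁻¹) = s * (u * u) * s⁻¹ := by group
        _ = 1 := by rw [hu, mul_one, mul_inv_cancel]
    rw [e1] at h2
    calc z * z = (u' * u') * (z * z) := by rw [hu', one_mul]
      _ = u' * (u' * z) * z := by group
      _ = u' * (z * u') * z := by rw [hcen u']
      _ = (u' * z) * (u' * z) := by group
      _ = 1 := h2
  obtain ⟨r, hr3, hr⟩ := mkQ_eq_one hz
  have : r * r = 1 := by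
    have := congrArg (fun t : S3 => (t : Matrix (Fin 3) (Fin 3) F) 0 0) e2
    simpa [hr, Matrix.mul_apply, Fin.sum_univ_three] using this
  have r1 : r = 1 := by
    rw [pow_succ, sq, this, one_mul] at hr3
    exact hr3
  have z1 : z = 1 := Subtype.ext (by rw [hr, r1, map_one]; rfl)
  rw [z1, mul_one, mul_inv_eq_iff_eq_mul] at e1
  exact e1

include hF in
theorem normalizer_subA :
    subA ⊔ (ellA (F := F)).range = Subgroup.normalizer ((subA (F := F) : Subgroup P3) : Set P3) := by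
  refine le_antisymm (sup_le Subgroup.le_normalizer ellA_le) fun x hx => ?_
  obtain ⟨s, rfl⟩ := QuotientGroup.mk'_surjective (Subgroup.center S3) x
  have sq1 : ∀ b c : F, uT 0 b c * uT 0 b c = 1 := fun b c => by
    rw [uT_mul]; simp [add_self hF, uT_zero]
  have key : ∀ b c : F, ∃ b' c', s * uT 0 b c = uT 0 b' c' * s := by
    intro b c
    obtain ⟨b', c', h⟩ := (Subgroup.mem_normalizer_iff.mp hx (uQ 0 b c)).mp ⟨b, c, rfl⟩
    exact ⟨b', c', lift_comm hF (sq1 b c) (sq1 b' c') h⟩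
  obtain ⟨b1, c1, k1⟩ := key 1 0
  obtain ⟨b2, c2, k2⟩ := key 0 1
  set S := (s : Matrix (Fin 3) (Fin 3) F) with hS
  have h20 : S 2 0 = 0 := by
    have := congrArg Subtype.val k1
    change (_ : Matrix (Fin 3) (Fin 3) F) * _ = _ * _ at this
    replace := congrFun (congrFun this 2) 2
    simpa [hS, uT, Matrix.SpecialLinearGroup.coe_mul, Matrix.mul_apply, Fin.sum_univ_three] using this
  have h21 : S 2 1 = 0 := by
    have := congrArg Subtype.val k2
    change (_ : Matrix (Fin 3) (Fin 3) F) * _ = _ * _ at this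
    replace := congrFun (congrFun this 2) 2
    simpa [hS, uT, Matrix.SpecialLinearGroup.coe_mul, Matrix.mul_apply, Fin.sum_univ_three] using this
  have hdet : S.det = 1 := s.2
  rw [Matrix.det_fin_three, h20, h21] at hdet
  simp at hdet
  have hr : S 2 2 ≠ 0 := fun h => by rw [h] at hdet; simp at hdet
  have hr3 := cube_one hF hr
  set r := S 2 2 with hr'
  let M : S2 := ⟨!![S 0 0 / r, S 0 1 / r; S 1 0 / r, S 1 1 / r], by
    rw [Matrix.det_fin_two]; simp
    field_simp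
    linear_combination (r ^ 2) * hdet - (S 0 0 * S 1 1 - S 0 1 * S 1 0 - 0) * hr3⟩
  have hMc : (M : Matrix (Fin 2) (Fin 2) F) = !![S 0 0 / r, S 0 1 / r; S 1 0 / r, S 1 1 / r] := rfl
  have hfac : mkQ s = uQ 0 (S 0 2 / r) (S 1 2 / r) * ellA M := by
    simp only [uQ, ellA, MonoidHom.comp_apply, ← map_mul]
    apply mkQ_eq_of_smul r
    show (_ : Matrix (Fin 3) (Fin 3) F) = r • (_ * _)
    ext i j
    fin_cases i <;> fin_cases j <;>
      simp [← hS, uT, leviA_coe, hMc, h20, h21, ← hr', Matrix.SpecialLinearGroup.coe_mul, Matrix.mul_apply, Fin.sum_univ_three,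
        mul_div_cancel₀ _ hr]
  show mkQ s ∈ _
  rw [hfac]
  exact Subgroup.mul_mem_sup ⟨_, _, rfl⟩ ⟨_, rfl⟩

include hF in
theorem normalizer_subB :
    subB ⊔ (ellB (F := F)).range = Subgroup.normalizer ((subB (F := F) : Subgroup P3) : Set P3) := by
  refine le_antisymm (sup_le Subgroup.le_normalizer ellB_le) fun x hx => ?_
  obtain ⟨s, rfl⟩ := QuotientGroup.mk'_surjective (Subgroup.center S3) x
  have sq1 : ∀ a b : F, uT a b 0 * uT a b 0 = 1 := fun a b => by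
    rw [uT_mul]; simp [add_self hF, uT_zero]
  obtain ⟨a', b', h⟩ := (Subgroup.mem_normalizer_iff.mp hx (uQ 1 0 0)).mp ⟨1, 0, rfl⟩
  have k1 := lift_comm hF (sq1 1 0) (sq1 a' b') h
  set S := (s : Matrix (Fin 3) (Fin 3) F) with hS
  have h10 : S 1 0 = 0 := by
    have := congrArg Subtype.val k1
    change (_ : Matrix (Fin 3) (Fin 3) F) * _ = _ * _ at this
    replace := congrFun (congrFun this 1) 1
    simpa [hS, uT, Matrix.SpecialLinearGroup.coe_mul, Matrix.mul_apply, Fin.sum_univ_three] using this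
  have h20 : S 2 0 = 0 := by
    have := congrArg Subtype.val k1
    change (_ : Matrix (Fin 3) (Fin 3) F) * _ = _ * _ at this
    replace := congrFun (congrFun this 2) 1
    simpa [hS, uT, Matrix.SpecialLinearGroup.coe_mul, Matrix.mul_apply, Fin.sum_univ_three] using this
  have hdet : S.det = 1 := s.2
  rw [Matrix.det_fin_three, h10, h20] at hdet
  simp at hdet
  have hr : S 0 0 ≠ 0 := fun h => by rw [h] at hdet; simp at hdet
  have hr3 := cube_one hF hr
  set r := S 0 0 with hr'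
  let M : S2 := ⟨!![S 1 1 / r, S 1 2 / r; S 2 1 / r, S 2 2 / r], by
    rw [Matrix.det_fin_two]; simp
    field_simp
    linear_combination (r ^ 2) * hdet - (S 1 1 * S 2 2 - S 1 2 * S 2 1) * hr3⟩
  have hMc : (M : Matrix (Fin 2) (Fin 2) F) = !![S 1 1 / r, S 1 2 / r; S 2 1 / r, S 2 2 / r] := rfl
  have hfac : mkQ s = uQ ((S 0 1 * S 2 2 - S 0 2 * S 2 1) / r ^ 2)
      ((S 0 2 * S 1 1 - S 0 1 * S 1 2) / r ^ 2) 0 * ellB M := by
    simp only [uQ, ellB, MonoidHom.comp_apply, ← map_mul]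
    apply mkQ_eq_of_smul r
    show (_ : Matrix (Fin 3) (Fin 3) F) = r • (_ * _)
    ext i j
    fin_cases i <;> fin_cases j <;>
      simp [← hS, uT, leviB_coe, hMc, h10, h20, ← hr', Matrix.SpecialLinearGroup.coe_mul, Matrix.mul_apply, Fin.sum_univ_three,
        mul_div_cancel₀ _ hr]
    · field_simp
      linear_combination (S 0 1 * (S 1 1 * S 2 2 - S 1 2 * S 2 1)) * hr3 - (S 0 1 * r ^ 2) * hdet
    · field_simp
      linear_combination (S 0 2 * (S 1 1 * S 2 2 - S 1 2 * S 2 1)) * hr3 - (S 0 2 * r ^ 2) * hdet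
  show mkQ s ∈ _
  rw [hfac]
  exact Subgroup.mul_mem_sup ⟨_, _, rfl⟩ ⟨_, rfl⟩

include hF in
theorem psl_two_equiv : Nonempty (S2 ≃* Matrix.ProjectiveSpecialLinearGroup (Fin 2) F) := by
  refine ⟨MulEquiv.ofBijective (QuotientGroup.mk' (Subgroup.center S2)) ⟨?_, QuotientGroup.mk'_surjective _⟩⟩
  rw [injective_iff_map_eq_one]
  intro M hM
  obtain ⟨r, hr, h⟩ := Matrix.SpecialLinearGroup.mem_center_iff.mp ((QuotientGroup.eq_one_iff M).mp hM)
  have hr2 : r ^ 2 = 1 := by simpa using hr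
  have hr0 : r ≠ 0 := fun e => by simp [e] at hr2
  have hr1 : r = 1 := by
    have := cube_one hF hr0
    rwa [pow_succ, hr2, one_mul] at this
  exact Subtype.ext (by rw [← h, hr1, map_one]; rfl)

end CfsgLib.L34Cover
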