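import Mathlib
import Cfsg.Agent.L34Cover.Model
import Cfsg.Prelude.Def_CaseTheorems

/-!
The covers of `PSL₃(4)` with elementary abelian 2-centre: the elementary abelian subgroups.
-/

set_option autoImplicit false
set_option linter.unusedVariables false

open Matrix
open scoped Pointwise

namespace CfsgLib.L34Cover

variable {X : Type*} [Group X] [Finite X] {F : Type*} [Field F] [Fintype F]

local notation "P3" => Matrix.ProjectiveSpecialLinearGroup (Fin 3) F

/-- The conclusion for a single subgroup. -/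
def Split (F : Type*) [Field F] [Fintype F] (H : Subgroup X) : Prop :=
  ∃ C : Subgroup X, C ≤ Subgroup.normalizer (H : Set X) ∧ C ⊓ H = ⊥ ∧
    H ⊔ C = Subgroup.normalizer (H : Set X) ∧
    Nonempty (↥C ≃* Matrix.ProjectiveSpecialLinearGroup (Fin 2) F)

theorem pair (hF : Fintype.card F = 4) (hZ : Cfsg.IsElementaryAbelian 2 (Subgroup.center X))
    (π : X →* P3) (hπ : Function.Surjective π) (hker : π.ker = Subgroup.center X) :
    Cfsg.IsElementaryAbelian 2 (subA.comap π) ∧ Cfsg.IsElementaryAbelian 2 (subB.comap π) ∧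
      subA.comap π ⊓ subB.comap π =
        (Subgroup.center ↥(subA.comap π ⊔ subB.comap π)).map (subA.comap π ⊔ subB.comap π).subtype ∧
      Split F (subA.comap π) ∧ Split F (subB.comap π) := by
  have hc16 : Nat.card F ^ 2 = 16 := by rw [Nat.card_eq_fintype_card, hF]; norm_num
  have hA : Cfsg.IsElementaryAbelian 2 (subA.comap π) := by
    refine elem_comap π hπ hker hZ _ (elem_subA hF) (by rw [card_subA, hc16]; norm_num) ?_
    intro a ha b hb ha1 hb1
    obtain ⟨M, rfl⟩ := trans_subA a ha ha1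
    obtain ⟨N, rfl⟩ := trans_subA b hb hb1
    exact ⟨ellA N * (ellA M)⁻¹, by group⟩
  have hB : Cfsg.IsElementaryAbelian 2 (subB.comap π) := by
    refine elem_comap π hπ hker hZ _ (elem_subB hF) (by rw [card_subB, hc16]; norm_num) ?_
    intro a ha b hb ha1 hb1
    obtain ⟨M, rfl⟩ := trans_subB a ha ha1
    obtain ⟨N, rfl⟩ := trans_subB b hb hb1
    exact ⟨ellB N * (ellB M)⁻¹, by group⟩
  haveI : Fact (Nat.Prime 2) := ⟨Nat.prime_two⟩
  haveI : CharP F 2 := CharTwo.of_one_ne_zero_of_two_eq_zero one_ne_zero (two_zero hF)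
  have hodd : ¬ 2 ∣ (subA (F := F) ⊔ subB).index := by
    rw [sup_eq]; exact CfsgLib.AutPSL.not_dvd_index_unitri (by norm_num)
  have hBA : subB (F := F) ≤ Subgroup.normalizer ((subA (F := F) : Subgroup P3) : Set P3) := by
    rintro x ⟨a, b, rfl⟩
    rw [Subgroup.mem_normalizer_iff]
    refine fun y => ⟨?_, fun hy => ?_⟩
    · rintro ⟨b', c', rfl⟩
      refine ⟨b' + a * c', c', ?_⟩
      rw [mul_inv_eq_iff_eq_mul, uQ_mul, uQ_mul]
      congr 1 <;> ring
    · obtain ⟨b', c', h⟩ := hy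
      rw [mul_inv_eq_iff_eq_mul] at h
      refine ⟨b' - a * c', c', mul_left_cancel (a := uQ a b 0) ?_⟩
      rw [h, uQ_mul, uQ_mul]
      congr 1 <;> ring
  have hAB : subA (F := F) ≤ Subgroup.normalizer ((subB (F := F) : Subgroup P3) : Set P3) := by
    rintro x ⟨b, c, rfl⟩
    rw [Subgroup.mem_normalizer_iff]
    refine fun y => ⟨?_, fun hy => ?_⟩
    · rintro ⟨a', b', rfl⟩
      refine ⟨a', b' - a' * c, ?_⟩
      rw [mul_inv_eq_iff_eq_mul, uQ_mul, uQ_mul]
      congr 1 <;> ring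
    · obtain ⟨a', b', h⟩ := hy
      rw [mul_inv_eq_iff_eq_mul] at h
      refine ⟨a', b' + a' * c, mul_left_cancel (a := uQ 0 b c) ?_⟩
      rw [h, uQ_mul, uQ_mul]
      congr 1 <;> ring
  obtain ⟨e⟩ := psl_two_equiv hF
  obtain ⟨C, c1, c2, c3, ⟨f⟩⟩ := complement_comap π hπ hker subA subB ellA hA hB hBA hodd
    ellA_inj ellA_disjoint (normalizer_subA hF)
  obtain ⟨D, d1, d2, d3, ⟨g⟩⟩ := complement_comap π hπ hker subB subA ellB hB hA hAB
    (by rwa [sup_comm]) ellB_inj ellB_disjoint (normalizer_subB hF)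
  exact ⟨hA, hB, center_sup_comap π hπ hker subA subB hA hB center_cond,
    ⟨C, c1, c2, c3, ⟨f.trans e⟩⟩, ⟨D, d1, d2, d3, ⟨g.trans e⟩⟩⟩

theorem main (hZ : Cfsg.IsElementaryAbelian 2 (Subgroup.center X)) (hF : Fintype.card F = 4)
    (e : (X ⧸ Subgroup.center X) ≃* P3) (T : Sylow 2 X) (H K : Subgroup X) (hHK : H ≠ K)
    (hHT : H ≤ T) (hKT : K ≤ T) (hZH : Subgroup.center X ≤ H) (hZK : Subgroup.center X ≤ K)
    (hH : Cfsg.IsElementaryAbelian 2 (H.map (QuotientGroup.mk' (Subgroup.center X))) ∧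
      Nat.card ↥(H.map (QuotientGroup.mk' (Subgroup.center X))) = 16)
    (hK : Cfsg.IsElementaryAbelian 2 (K.map (QuotientGroup.mk' (Subgroup.center X))) ∧
      Nat.card ↥(K.map (QuotientGroup.mk' (Subgroup.center X))) = 16) :
    Cfsg.IsElementaryAbelian 2 H ∧ Cfsg.IsElementaryAbelian 2 K ∧
      H ⊓ K = (Subgroup.center ↥(H ⊔ K)).map (H ⊔ K).subtype ∧ Split F H ∧ Split F K := by
  classical
  haveI : Fact (Nat.Prime 2) := ⟨Nat.prime_two⟩
  haveI : CharP F 2 := CharTwo.of_one_ne_zero_of_two_eq_zero one_ne_zero (two_zero hF)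
  let π₀ : X →* P3 := e.toMonoidHom.comp (QuotientGroup.mk' (Subgroup.center X))
  let U : Sylow 2 P3 := (CfsgLib.AutPSL.isPGroup_unitri (F := F) (n := 3) 2).toSylow
    (CfsgLib.AutPSL.not_dvd_index_unitri (by norm_num))
  obtain ⟨P, hP⟩ := (T.isPGroup'.map π₀).exists_le_sylow
  obtain ⟨g, hg⟩ := MulAction.exists_smul_eq P3 P U
  let c : P3 ≃* P3 := MulAut.conj g
  let ψ : (X ⧸ Subgroup.center X) ≃* P3 := e.trans c
  let π : X →* P3 := ψ.toMonoidHom.comp (QuotientGroup.mk' (Subgroup.center X))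
  have hπ : Function.Surjective π := ψ.surjective.comp (QuotientGroup.mk'_surjective _)
  have hker : π.ker = Subgroup.center X := by
    ext x
    simp [π, MonoidHom.mem_ker]
  have hTU : ∀ x ∈ (T : Subgroup X), π x ∈ CfsgLib.AutPSL.unitri F 3 := by
    intro x hx
    have h2 : g * π₀ x * g⁻¹ ∈ ((g • P : Sylow 2 P3) : Subgroup P3) := by
      rw [Sylow.coe_subgroup_smul]
      exact Subgroup.smul_mem_pointwise_smul (π₀ x) (MulAut.conj g) _ (hP ⟨x, hx, rfl⟩)
    rw [hg] at h2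
    exact h2
  have him : ∀ L : Subgroup X, L ≤ T →
      Cfsg.IsElementaryAbelian 2 (L.map (QuotientGroup.mk' (Subgroup.center X))) ∧
      Nat.card ↥(L.map (QuotientGroup.mk' (Subgroup.center X))) = 16 →
      L.map π = subA ∨ L.map π = subB := by
    intro L hL hLe
    have hm : L.map π = (L.map (QuotientGroup.mk' (Subgroup.center X))).map ψ.toMonoidHom :=
      (Subgroup.map_map _ _ _).symm
    refine le_unitri_cases hF _ ?_ ?_ ?_
    · rw [hm]
      refine ⟨⟨⟨?_⟩⟩, ?_⟩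
      · rintro ⟨_, a, ha, rfl⟩ ⟨_, b, hb, rfl⟩
        exact Subtype.ext (show ψ a * ψ b = ψ b * ψ a by
          rw [← map_mul, ← map_mul, show a * b = b * a from
            congrArg Subtype.val (hLe.1.1.is_comm.comm ⟨a, ha⟩ ⟨b, hb⟩)])
      · rintro _ ⟨a, ha, rfl⟩
        rw [← map_pow, hLe.1.2 a ha, map_one]
    · rintro _ ⟨x, hx, rfl⟩
      exact hTU x (hL hx)
    · rw [hm, Subgroup.card_map_of_injective ψ.injective, hLe.2]
  have hcm : ∀ L : Subgroup X, Subgroup.center X ≤ L → (L.map π).comap π = L := fun L hL =>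
    Subgroup.comap_map_eq_self (hker.le.trans hL)
  obtain ⟨hA, hB, hcen, hsA, hsB⟩ := pair hF hZ π hπ hker
  rcases him H hHT hH with h1 | h1 <;> rcases him K hKT hK with h2 | h2
  · exact absurd (by rw [← hcm H hZH, ← hcm K hZK, h1, h2]) hHK
  · rw [← hcm H hZH, ← hcm K hZK, h1, h2]
    exact ⟨hA, hB, hcen, hsA, hsB⟩
  · rw [← hcm H hZH, ← hcm K hZK, h1, h2]
    refine ⟨hB, hA, ?_, hsB, hsA⟩
    rw [inf_comm, hcen]
    exact congrArg (fun M : Subgroup X => (Subgroup.center ↥M).map M.subtype) (sup_comm _ _)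
  · exact absurd (by rw [← hcm H hZH, ← hcm K hZK, h1, h2]) hHK

end CfsgLib.L34Cover
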